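import Cfsg.Agent.Mrg.Omega.BTwo.Entry
import Cfsg.Agent.Lib.SylowNormalInf

section


/-!
# THEOREM MIX-K (helper932): mixed pairs, a Sylow 2-subgroup of `N_G(R)` normalises one of the two lines

`s : SideW V R B C` : the situation at the line `V` (points `R i`); `I i = B i ⊓ YY (B i) (C i)`,
`B₀ = ⨅ B k`, `D = ⨅ YY (B k) (C k)`.

* `SideW.inf_le` : `T` a 2-group of odd index in `N(R o)`, `b ∈ B o` moves `V`, `[b, T] ≤ R o` :
  `B j ⊓ YY (B j) (C j) ≤ R j B₀` for `j ≠ o`, hence for `j = o`;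
* `SideW.Y_le` : `YY (B o) (C o) ≤ R o D`;
* `SideW.exists_ne` : every `A ≤ YY (B o) (C o)` with `|R o| < |A|` meets `D`;
* `SideW.false_of` : the contradiction from `R o ≤ O₂(C(z))`, `O₂(C(z)) ≤ C(v)`, `v` moves `V`, for the `z ∈ A#`.
-/

set_option autoImplicit false

namespace Cfsg.Agent.Omega.MixOne

open Subgroup Cfsg.Agent.Omega.BTwo Cfsg.Agent.Omega.Mix

namespace OrbitS

variable {G : Type*} [Group G] [Finite G]

/-- `T` a 2-group of odd index in `H`, `O` normal in `H`, `I ≤ O` a 2-group: `I^g ≤ T` for some `g ∈ O` -/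
theorem exists_conj {H T O I : Subgroup G} (hT : IsPGroup 2 T) (hs : ¬ 2 ∣ T.relIndex H)
    (hO : O ≤ H) (hn : H ≤ normalizer (O : Set G)) (hIO : I ≤ O) (hI : IsPGroup 2 I) :
    ∃ g ∈ O, ∀ u ∈ I, g * u * g⁻¹ ∈ T := by
  have : Fact (Nat.Prime 2) := ⟨Nat.prime_two⟩
  have hT' : IsPGroup 2 (T.subgroupOf H) := hT.comap_of_injective _ H.subtype_injective
  have : (O.subgroupOf H).Normal := normal_subgroupOf_of_le_normalizer hn
  have h1 := Lib.SylowNormalInf.not_dvd_relIndex (hT'.toSylow hs) (O.subgroupOf H)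
  have h2 : (((hT'.toSylow hs : Sylow 2 H) : Subgroup H)).relIndex (O.subgroupOf H) = T.relIndex O := by
    change (T.subgroupOf H).relIndex (O.subgroupOf H) = T.relIndex O
    rw [Subgroup.relIndex_subgroupOf hO]
  rw [h2] at h1
  have hI' : IsPGroup 2 (I.subgroupOf O) := hI.comap_subtype
  obtain ⟨S2, hS2⟩ := hI'.exists_le_sylow
  obtain ⟨c, hc⟩ := MulAction.exists_smul_eq O S2
    ((hT.comap_of_injective _ O.subtype_injective).toSylow h1)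
  refine ⟨c, c.2, fun x hx => ?_⟩
  have h3 : (⟨x, hIO hx⟩ : O) ∈ (S2 : Subgroup O) := hS2 (Subgroup.mem_subgroupOf.mpr hx)
  have h4 : c * ⟨x, hIO hx⟩ * c⁻¹ ∈ ((c • S2 : Sylow 2 O) : Subgroup O) := by
    rw [Sylow.coe_subgroup_smul]
    exact Subgroup.smul_mem_pointwise_smul _ (MulAut.conj c) _ h3
  rw [hc] at h4
  exact mem_subgroupOf.1 h4

end OrbitS

namespace SideW

variable {G : Type*} [Group G] [Finite G] {ι : Type*} {V : Subgroup G} {R B C : ι → Subgroup G}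
  (s : SideW V R B C)
include s

/-- `I j ≤ R j B₀`, `j ≠ o` -/
theorem inf_le_of_ne {T : Subgroup G} {o j : ι} (hj : j ≠ o) (hT : IsPGroup 2 T)
    (hTR : ¬ 2 ∣ T.relIndex (normalizer (R o : Set G))) {b : G} (hb : b ∈ B o)
    (hbV : ¬ ∀ v ∈ V, b * v = v * b) (hbT : ∀ t ∈ T, b * t * b⁻¹ * t⁻¹ ∈ R o) {u : G} (hu : u ∈ B j)
    (huY : u ∈ YY (B j) (C j)) : ∃ r ∈ R j, ∃ x ∈ ⨅ k, B k, u = r * x := by
  obtain ⟨H, hH⟩ : ∃ H, H = normalizer (R o : Set G) := ⟨_, rfl⟩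
  obtain ⟨K, hK⟩ : ∃ K, K = B o ⊓ YY (B o) (C o) := ⟨_, rfl⟩
  have hHB : ∀ g ∈ H, ∀ w ∈ B o, g * w * g⁻¹ ∈ B o := fun g hg w hw =>
    conj_mem_of_normalizer (s.nB o (hH ▸ hg)) hw
  have hHK : ∀ g ∈ H, ∀ w ∈ K, g * w * g⁻¹ ∈ K := fun g hg w hw => by
    rw [hK] at hw ⊢
    exact ⟨hHB g hg w hw.1, conj_mem_of_normalizer (s.nY o (hH ▸ hg)) hw.2⟩
  -- `O` : the elements of `H` acting trivially on `B o / K`
  let O : Subgroup G :=
    { carrier := {g | g ∈ H ∧ ∀ w ∈ B o, g * w * g⁻¹ * w⁻¹ ∈ K}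
      one_mem' := ⟨one_mem _, fun w _ => by
        have e : (1 : G) * w * 1⁻¹ * w⁻¹ = 1 := by group
        rw [e]; exact one_mem _⟩
      mul_mem' := by
        rintro g h ⟨hg, hg1⟩ ⟨hh, hh1⟩
        refine ⟨mul_mem hg hh, fun w hw => ?_⟩
        have e : g * h * w * (g * h)⁻¹ * w⁻¹ =
            (g * (h * w * h⁻¹ * w⁻¹) * g⁻¹) * (g * w * g⁻¹ * w⁻¹) := by group
        rw [e]
        exact mul_mem (hHK g hg _ (hh1 w hw)) (hg1 w hw)
      inv_mem' := by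
        rintro g ⟨hg, hg1⟩
        refine ⟨inv_mem hg, fun w hw => ?_⟩
        have h1 := inv_mem (hHK g⁻¹ (inv_mem hg) _ (hg1 w hw))
        have e : (g⁻¹ * (g * w * g⁻¹ * w⁻¹) * g⁻¹⁻¹)⁻¹ = g⁻¹ * w * g⁻¹⁻¹ * w⁻¹ := by group
        rwa [e] at h1 }
  have hOH : O ≤ H := fun g hg => hg.1
  have hn : H ≤ normalizer (O : Set G) := by
    have key : ∀ h ∈ H, ∀ g ∈ O, h * g * h⁻¹ ∈ O := by
      rintro h hh g ⟨hg, hg1⟩
      refine ⟨mul_mem (mul_mem hh hg) (inv_mem hh), fun w hw => ?_⟩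
      have h1 : h⁻¹ * w * h ∈ B o := by
        have := hHB h⁻¹ (inv_mem hh) w hw
        rwa [inv_inv] at this
      have h2 := hHK h hh _ (hg1 _ h1)
      have e : h * (g * (h⁻¹ * w * h) * g⁻¹ * (h⁻¹ * w * h)⁻¹) * h⁻¹ =
          h * g * h⁻¹ * w * (h * g * h⁻¹)⁻¹ * w⁻¹ := by group
      rwa [e] at h2
    intro h hh
    rw [mem_normalizer_iff]
    intro g
    refine ⟨key h hh g, fun hg => ?_⟩
    have h1 := key h⁻¹ (inv_mem hh) _ hg
    have e : h⁻¹ * (h * g * h⁻¹) * h⁻¹⁻¹ = g := by group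
    rwa [e] at h1
  -- `I j ≤ O`
  obtain ⟨I, hI⟩ : ∃ I, I = B j ⊓ YY (B j) (C j) := ⟨_, rfl⟩
  have hIO : I ≤ O := by
    intro x hx
    rw [hI] at hx
    have hxH : x ∈ H := by
      rw [hH]; exact s.cV_le_NR (s.Y_V hx.2) o
    refine ⟨hxH, fun w hw => ?_⟩
    have h1 : x * w * x⁻¹ * w⁻¹ ∈ B o := mul_mem (hHB x hxH w hw) (inv_mem hw)
    have h2 := inv_mem (s.comm_B_Y hw hx.2)
    have e : (w * x * w⁻¹ * x⁻¹)⁻¹ = x * w * x⁻¹ * w⁻¹ := by group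
    rw [e] at h2
    rw [hK]
    exact ⟨h1, h2⟩
  have hI2 : IsPGroup 2 I := by
    intro x
    refine ⟨1, ?_⟩
    rw [pow_one, pow_two]
    have hIB : I ≤ B j := by rw [hI]; exact inf_le_left
    exact Subtype.ext (s.B_sq j x (hIB x.2))
  rw [← hH] at hTR
  obtain ⟨g, hg, hgT⟩ := OrbitS.exists_conj hT hTR hOH hn hIO hI2
  -- `b' = g⁻¹ b g`
  have hgH : g ∈ H := hOH hg
  have hb'B : g⁻¹ * b * g ∈ B o := by
    have := hHB g⁻¹ (inv_mem hgH) b hb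
    rwa [inv_inv] at this
  have hb'K : g⁻¹ * b * g * b⁻¹ ∈ K := by
    have := (inv_mem hg).2 b hb
    rwa [inv_inv] at this
  have hb'V : ¬ ∀ v ∈ V, g⁻¹ * b * g * v = v * (g⁻¹ * b * g) := by
    intro hall
    apply hbV
    intro v hv
    rw [hK] at hb'K
    have h1 := s.Y_V hb'K.2 v hv
    have h2 := hall v hv
    have e : b = (g⁻¹ * b * g * b⁻¹)⁻¹ * (g⁻¹ * b * g) := by group
    have h3 : (g⁻¹ * b * g * b⁻¹)⁻¹ * v = v * (g⁻¹ * b * g * b⁻¹)⁻¹ := by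
      rw [inv_mul_eq_iff_eq_mul, ← mul_assoc, h1, mul_inv_cancel_right]
    calc b * v = (g⁻¹ * b * g * b⁻¹)⁻¹ * (g⁻¹ * b * g) * v := by rw [← e]
      _ = (g⁻¹ * b * g * b⁻¹)⁻¹ * (g⁻¹ * b * g * v) := by group
      _ = (g⁻¹ * b * g * b⁻¹)⁻¹ * v * (g⁻¹ * b * g) := by rw [h2]; group
      _ = v * ((g⁻¹ * b * g * b⁻¹)⁻¹ * (g⁻¹ * b * g)) := by rw [h3]; group
      _ = v * b := by rw [← e]
  refine s.mem_R_of_comm (Ne.symm hj) hb'B hb'V hu ?_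
  have hu' := hgT u (by rw [hI]; exact ⟨hu, huY⟩)
  have h1 := hbT _ hu'
  have hgN : g⁻¹ ∈ normalizer (R o : Set G) := by rw [← hH]; exact inv_mem hgH
  have h2 := conj_mem_of_normalizer hgN h1
  have e : g⁻¹ * (b * (g * u * g⁻¹) * b⁻¹ * (g * u * g⁻¹)⁻¹) * g⁻¹⁻¹ =
      g⁻¹ * b * g * u * (g⁻¹ * b * g)⁻¹ * u⁻¹ := by group
  rwa [e] at h2

/-- `I o ≤ R o B₀` -/
theorem inf_le_self {T : Subgroup G} {o : ι} (hT : IsPGroup 2 T)
    (hTR : ¬ 2 ∣ T.relIndex (normalizer (R o : Set G))) {b : G} (hb : b ∈ B o)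
    (hbV : ¬ ∀ v ∈ V, b * v = v * b) (hbT : ∀ t ∈ T, b * t * b⁻¹ * t⁻¹ ∈ R o) {u : G} (hu : u ∈ B o)
    (huY : u ∈ YY (B o) (C o)) : ∃ r ∈ R o, ∃ x ∈ ⨅ k, B k, u = r * x := by
  obtain ⟨j, hj, -⟩ := s.third o o
  obtain ⟨m, -, -, x, hx, e⟩ := s.trans_B o j
  have hxN : x ∈ normalizer (V : Set G) := s.B_NV m hx
  have h1 : x * u * x⁻¹ ∈ B j := by rw [← s.cB x o j e]; exact conj_mem_cj hu
  have h2 : x * u * x⁻¹ ∈ YY (B j) (C j) := by rw [← s.cY e]; exact conj_mem_cj huY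
  obtain ⟨r, hr, y, hy, h3⟩ := s.inf_le_of_ne hj hT hTR hb hbV hbT h1 h2
  refine ⟨x⁻¹ * r * x, ?_, y, hy, ?_⟩
  · rw [← e, mem_cj] at hr
    exact hr
  · have hyx : x * y = y * x := s.B0_comm hy m x hx
    calc u = x⁻¹ * (x * u * x⁻¹) * x := by group
      _ = x⁻¹ * r * (y * x) := by rw [h3]; group
      _ = x⁻¹ * r * x * y := by rw [← hyx]; group

/-- `Y o ≤ R o D` -/
theorem Y_le {T : Subgroup G} {o : ι} (hT : IsPGroup 2 T)
    (hTR : ¬ 2 ∣ T.relIndex (normalizer (R o : Set G))) {b : G} (hb : b ∈ B o)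
    (hbV : ¬ ∀ v ∈ V, b * v = v * b) (hbT : ∀ t ∈ T, b * t * b⁻¹ * t⁻¹ ∈ R o) {y : G}
    (hy : y ∈ YY (B o) (C o)) : ∃ r ∈ R o, ∃ d ∈ ⨅ k, YY (B k) (C k), y = r * d := by
  obtain ⟨u, hu, huY, d, hd, rfl⟩ := s.exists_D hy
  obtain ⟨r, hr, x, hx, rfl⟩ := s.inf_le_self hT hTR hb hbV hbT (TT_le _ _ hu) huY
  exact ⟨r, hr, x * d, mul_mem (s.B0_le_D hx) hd, by rw [mul_assoc]⟩

/-- `A ≤ Y o` with `|R o| < |A|` meets `D` -/
theorem exists_ne {T : Subgroup G} {o : ι} (hT : IsPGroup 2 T)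
    (hTR : ¬ 2 ∣ T.relIndex (normalizer (R o : Set G))) {b : G} (hb : b ∈ B o)
    (hbV : ¬ ∀ v ∈ V, b * v = v * b) (hbT : ∀ t ∈ T, b * t * b⁻¹ * t⁻¹ ∈ R o) {A : Subgroup G}
    (hA : A ≤ YY (B o) (C o)) (hcard : Nat.card (R o) < Nat.card A) :
    ∃ z ∈ A, z ≠ 1 ∧ z ∈ ⨅ k, YY (B k) (C k) := by
  classical
  have key : ∀ a : A, ∃ r : R o, ∃ d ∈ ⨅ k, YY (B k) (C k), (a : G) = r * d := fun a => by
    obtain ⟨r, hr, d, hd, e⟩ := s.Y_le hT hTR hb hbV hbT (hA a.2)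
    exact ⟨⟨r, hr⟩, d, hd, e⟩
  choose f hf using key
  have hni : ¬ Function.Injective f := fun hi => by
    have := Nat.card_le_card_of_injective f hi
    omega
  rw [Function.Injective] at hni
  push Not at hni
  obtain ⟨x, y, hxy, hne⟩ := hni
  obtain ⟨d, hd, e1⟩ := hf x
  obtain ⟨d', hd', e2⟩ := hf y
  refine ⟨(x : G)⁻¹ * y, mul_mem (inv_mem x.2) y.2, fun h => hne ?_, ?_⟩
  · exact Subtype.ext (inv_mul_eq_one.1 h)
  · have e3 : (x : G)⁻¹ * y = d⁻¹ * d' := by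
      rw [e1, e2, hxy]; group
    rw [e3]
    exact mul_mem (inv_mem hd) hd'

/-- **THEOREM MIX-K** -/
theorem false_of {T : Subgroup G} {o : ι} (hT : IsPGroup 2 T)
    (hTR : ¬ 2 ∣ T.relIndex (normalizer (R o : Set G))) {b : G} (hb : b ∈ B o)
    (hbV : ¬ ∀ v ∈ V, b * v = v * b) (hbT : ∀ t ∈ T, b * t * b⁻¹ * t⁻¹ ∈ R o) {A : Subgroup G}
    (hA : A ≤ YY (B o) (C o)) (hcard : Nat.card (R o) < Nat.card A)
    (hV : V ≤ ⨆ i, R i) {v : G} (hv : ¬ ∀ x ∈ V, v * x = x * v)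
    (hz : ∀ z ∈ A, z ≠ 1 → R o ≤ O2 (centralizer ({z} : Set G)) ∧
      ∀ x ∈ O2 (centralizer ({z} : Set G)), v * x = x * v) : False := by
  obtain ⟨z, hzA, hz1, hzD⟩ := s.exists_ne hT hTR hb hbV hbT hA hcard
  obtain ⟨h1, h2⟩ := hz z hzA hz1
  have hBz : ∀ k, B k ≤ centralizer ({z} : Set G) := fun k x hx => by
    rw [mem_centralizer_singleton_iff]
    exact (D_comm hzD k x hx).symm
  apply hv
  have h3 : V ≤ O2 (centralizer ({z} : Set G)) := by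
    refine hV.trans (iSup_le fun i => ?_)
    obtain ⟨m, -, -, x, hx, e⟩ := s.trans_B o i
    rw [← e]
    have h4 := cj_mono (g := x) h1
    rwa [cj_eq_self_iff.2 (le_normalizer_O2 _ (hBz m hx))] at h4
  exact fun x hx => h2 x (h3 hx)

end SideW

end Cfsg.Agent.Omega.MixOne

end

section


/-!
# LEMMA ONE (helper19, bb OMEGA #23393): the abstract part

`s : SideW V R B C`, `T` a 2-group of odd index in `N_G(R o)`, `b ∈ B o` moves `V`, `[b, T] ≤ R o`.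

* `SideW.mem_D_of_tor` : `d ∈ C(B o C o) ∩ C(T)`; `⟨B k⟩ ∩ N(R o)` and `C(d) ∩ N(R o)` are transitive on `R o - 1`, `|R o| > 2`.
  Then `d` commutes with all `B k`, `C k`.
-/

set_option autoImplicit false

namespace Cfsg.Agent.Omega.MixOne.SideW

open Subgroup Cfsg.Agent.Omega.BTwo Cfsg.Agent.Omega.Mix

variable {G : Type*} [Group G] [Finite G] {ι : Type*} {V : Subgroup G} {R B C : ι → Subgroup G}
  (s : SideW V R B C)
include s

/-- **LEMMA ONE, (1), (2)**: `d ∈ Y o = R o D` lies in `D`. -/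
theorem mem_D_of_tor {T : Subgroup G} {o : ι} (hT : IsPGroup 2 T) (hTN : T ≤ normalizer (R o : Set G))
    (hTR : ¬ 2 ∣ T.relIndex (normalizer (R o : Set G))) {b : G} (hb : b ∈ B o)
    (hbV : ¬ ∀ v ∈ V, b * v = v * b) (hbT : ∀ t ∈ T, b * t * b⁻¹ * t⁻¹ ∈ R o) (h3 : 2 < Nat.card (R o))
    (h2 : 2 ∣ Nat.card (R o))
    (tor : ∀ r ∈ R o, r ≠ 1 → ∀ r' ∈ R o, r' ≠ 1 →
      ∃ x ∈ ⨆ k, B k, x ∈ normalizer (R o : Set G) ∧ x * r * x⁻¹ = r') {d : G}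
    (hd : d ∈ YY (B o) (C o)) (hTd : ∀ t ∈ T, t * d = d * t)
    (tor' : ∀ r ∈ R o, r ≠ 1 → ∀ r' ∈ R o, r' ≠ 1 →
      ∃ t, t * d = d * t ∧ t ∈ normalizer (R o : Set G) ∧ t * r * t⁻¹ = r') :
    d ∈ ⨅ k, YY (B k) (C k) := by
  obtain ⟨r, hr, e, he, hde⟩ := s.Y_le hT hTR hb hbV hbT hd
  by_cases hr1 : r = 1
  · rw [hde, hr1, one_mul]; exact he
  exfalso
  have heX : ∀ x ∈ ⨆ k, B k, x * e = e * x := by
    have h1 : ⨆ k, B k ≤ centralizer ({e} : Set G) := iSup_le fun k x hx => by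
      rw [mem_centralizer_singleton_iff]
      exact (D_comm he k x hx).symm
    exact fun x hx => mem_centralizer_singleton_iff.1 (h1 hx)
  have hRc : ∀ x ∈ R o, ∀ y ∈ R o, x * y = y * x := fun x hx y hy =>
    s.B_comm o x (s.R_B o hx) y (s.R_B o hy)
  have hRs : ∀ x ∈ R o, x * x = 1 := fun x hx => s.B_sq o x (s.R_B o hx)
  have hN : ∀ {g x : G}, g ∈ normalizer (R o : Set G) → x ∈ R o → g * x * g⁻¹ ∈ R o := fun {g x} hg hx =>
    (mem_normalizer_iff.1 hg x).1 hx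
  -- `Γ`
  let Γ : Subgroup G :=
    { carrier := {g | g ∈ normalizer (R o : Set G) ∧ g * d * g⁻¹ * d⁻¹ ∈ R o}
      one_mem' := ⟨one_mem _, by
        have e1 : (1 : G) * d * 1⁻¹ * d⁻¹ = 1 := by group
        rw [e1]; exact one_mem _⟩
      mul_mem' := by
        rintro g h ⟨hg, hg1⟩ ⟨hh, hh1⟩
        refine ⟨mul_mem hg hh, ?_⟩
        have e1 : g * h * d * (g * h)⁻¹ * d⁻¹ = g * (h * d * h⁻¹ * d⁻¹) * g⁻¹ * (g * d * g⁻¹ * d⁻¹) := by group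
        rw [e1]
        exact mul_mem (hN hg hh1) hg1
      inv_mem' := by
        rintro g ⟨hg, hg1⟩
        refine ⟨inv_mem hg, ?_⟩
        have h1 := hN (inv_mem hg) (inv_mem hg1)
        have e1 : g⁻¹ * (g * d * g⁻¹ * d⁻¹)⁻¹ * g⁻¹⁻¹ = g⁻¹ * d * g⁻¹⁻¹ * d⁻¹ := by group
        rwa [e1] at h1 }
  have hΓN : Γ ≤ normalizer (R o : Set G) := fun g hg => hg.1
  -- `Γ` is transitive on `R o * d`
  have hx1 : ∀ r₁ ∈ R o, r₁ ≠ r → ∃ g ∈ Γ, g * d * g⁻¹ = r₁ * d := by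
    intro r₁ hr₁ hne
    have h1 : r₁ * r ≠ 1 := by
      intro h
      apply hne
      calc r₁ = r₁ * (r * r) := by rw [hRs r hr, mul_one]
        _ = r₁ * r * r := by group
        _ = r := by rw [h, one_mul]
    obtain ⟨x, hx, hxN, hxr⟩ := tor r hr hr1 _ (mul_mem hr₁ hr) h1
    have h2 : x * d * x⁻¹ = r₁ * d := by
      calc x * d * x⁻¹ = x * r * x⁻¹ * (x * e * x⁻¹) := by rw [hde]; group
        _ = r₁ * r * e := by rw [hxr, heX x hx, mul_inv_cancel_right]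
        _ = r₁ * d := by rw [hde]; group
    refine ⟨x, ⟨hxN, ?_⟩, h2⟩
    rw [h2, mul_inv_cancel_right]
    exact hr₁
  have htr : ∀ r₁ ∈ R o, ∃ g ∈ Γ, g * d * g⁻¹ = r₁ * d := by
    intro r₁ hr₁
    by_cases hne : r₁ = r
    · -- another element of `R o`
      obtain ⟨r₂, hr₂, hr₂1, hr₂r⟩ : ∃ r₂ ∈ R o, r₂ ≠ 1 ∧ r₂ ≠ r := by
        by_contra hcon
        push Not at hcon
        have h4 : (R o : Set G) ⊆ {1, r} := by
          intro x hx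
          by_cases hx1 : x = 1
          · left; exact hx1
          · right; exact hcon x hx hx1
        have h5 := Set.ncard_le_ncard h4 (Set.toFinite _)
        rw [← Nat.card_coe_set_eq] at h5
        have h6 : ({1, r} : Set G).ncard ≤ 2 := Set.ncard_insert_le _ _ |>.trans (by rw [Set.ncard_singleton])
        have h7 : Nat.card (R o : Set G) = Nat.card (R o) := rfl
        omega
      obtain ⟨g, hg, hgd⟩ := hx1 r₂ hr₂ hr₂r
      obtain ⟨t, htd, htN, htr⟩ := tor' r₂ hr₂ hr₂1 r hr hr1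
      have h1 : t * g * d * (t * g)⁻¹ = r₁ * d := by
        calc t * g * d * (t * g)⁻¹ = t * (g * d * g⁻¹) * t⁻¹ := by group
          _ = t * r₂ * t⁻¹ * (t * d * t⁻¹) := by rw [hgd]; group
          _ = r₁ * d := by rw [htr, htd, mul_inv_cancel_right, hne]
      refine ⟨t * g, ⟨mul_mem htN hg.1, ?_⟩, h1⟩
      rw [h1, mul_inv_cancel_right]
      exact hr₁
    · exact hx1 r₁ hr₁ hne
  choose! f hfΓ hfd using htr
  set Cd : Subgroup G := Γ ⊓ centralizer ({d} : Set G) with hCd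
  have hCΓ : Cd ≤ Γ := inf_le_left
  have hTC : T ≤ Cd := by
    intro t ht
    refine ⟨⟨hTN ht, ?_⟩, mem_centralizer_singleton_iff.2 (hTd t ht)⟩
    rw [hTd t ht, mul_inv_cancel_right, mul_inv_cancel]
    exact one_mem _
  -- `|Γ : Cd| = |R o|`
  have hcard : Cd.relIndex Γ = Nat.card (R o) := by
    rw [relIndex, index_eq_card]
    symm
    refine Nat.card_eq_of_bijective
      (fun x : R o => ((⟨f x, hfΓ x x.2⟩ : Γ) : Γ ⧸ Cd.subgroupOf Γ)) ⟨?_, ?_⟩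
    · intro x y hxy
      have h1 := QuotientGroup.eq.1 hxy
      have h4 : (f x)⁻¹ * f y * d = d * ((f x)⁻¹ * f y) :=
        mem_centralizer_singleton_iff.1 (mem_subgroupOf.1 h1).2
      have h5 : f x * d * (f x)⁻¹ = f y * d * (f y)⁻¹ := by
        calc f x * d * (f x)⁻¹ = f x * (d * ((f x)⁻¹ * f y)) * (f y)⁻¹ := by group
          _ = f x * ((f x)⁻¹ * f y * d) * (f y)⁻¹ := by rw [h4]
          _ = f y * d * (f y)⁻¹ := by group
      rw [hfd x x.2, hfd y y.2] at h5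
      exact Subtype.ext (mul_right_cancel h5)
    · intro q
      obtain ⟨⟨g, hg⟩, rfl⟩ := QuotientGroup.mk_surjective q
      refine ⟨⟨g * d * g⁻¹ * d⁻¹, hg.2⟩, ?_⟩
      refine QuotientGroup.eq.2 (mem_subgroupOf.2 ?_)
      have h1 := hfd _ hg.2
      rw [inv_mul_cancel_right] at h1
      refine mem_inf.2 ⟨mul_mem (inv_mem (hfΓ _ hg.2)) hg, mem_centralizer_singleton_iff.2 ?_⟩
      change (f (g * d * g⁻¹ * d⁻¹))⁻¹ * g * d = d * ((f (g * d * g⁻¹ * d⁻¹))⁻¹ * g)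
      set y := f (g * d * g⁻¹ * d⁻¹) with hy
      calc y⁻¹ * g * d = y⁻¹ * (g * d * g⁻¹) * g := by group
        _ = y⁻¹ * (y * d * y⁻¹) * g := by rw [h1]
        _ = d * (y⁻¹ * g) := by group
  apply hTR
  have h4 := relIndex_mul_relIndex T Cd Γ hTC hCΓ
  have h5 := relIndex_mul_relIndex T Γ _ (hTC.trans hCΓ) hΓN
  rw [← h5, ← h4, hcard]
  exact h2.trans ((dvd_mul_left _ _).trans (dvd_mul_right _ _))

end Cfsg.Agent.Omega.MixOne.SideW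

end
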